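import Cfsg.Agent.H628.ZOutBasic
import Cfsg.Agent.H208.Dict
import Cfsg.Agent.ETable.OrthBase

/-!
# Outer automorphisms of odd prime order of the simple orthogonal groups (helper628)

`Q` good (nondegenerate, dimension `≥ 5`, Witt index `≥ 2`) over a finite field.

* `lang_gam` : a semisimilitude with nontrivial field automorphism and `Psi Q M ^ p = 1` : `LangAt p (Psi Q M)`;
* `inner_gam` : `Psi Q M ^ 4` is inner for a similitude `M`;
* `main` : automorphisms of odd prime order of `POmega F Q` induced by semisimilarities are inner or satisfy `LangAt p`;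
* `odd`, `minus`, `plus` (`m ≥ 5`), `plus_four` (`p ≠ 3`) : the families.
-/

set_option autoImplicit false

namespace Cfsg.Agent.H628.ZOutOrth

open Cfsg QuadraticMap Module Cfsg.Agent.H28.ZIso Cfsg.Agent.H628.ZOutBasic
open Cfsg.Agent.LieClassical.OrthCore Cfsg.Agent.LieClassical.OrthTrans Cfsg.Agent.LieClassical.QuadForms
open Cfsg.Agent.ClassicalGeometry.OrthSemi Cfsg.Agent.AutOrth.Main Cfsg.Agent.ClassicalGeometry.OrthAut1
open Cfsg.Agent.H208.Parity Cfsg.Agent.H208.ConjSS Cfsg.Agent.H208.Dict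

section Abstract

variable {F V : Type*} [Field F] [AddCommGroup V] [Module F V] [FiniteDimensional F V] {Q : QuadraticForm F V}
  {p : ℕ}

omit [FiniteDimensional F V] in
/-- Elements of `E Q` induce inner automorphisms. -/
theorem psi_ofO_E {h : V ≃ₗ[F] V} (hO : h ∈ O Q) (hE : h ∈ E Q) :
    Psi Q (ofO h hO) = MulAut.conj (QuotientGroup.mk (⟨h, hE⟩ : E Q) : P Q) := by
  ext x
  induction x using QuotientGroup.induction_on with
  | H y =>
    rw [Psi_mk, MulAut.conj_apply, ← QuotientGroup.mk_mul, ← QuotientGroup.mk_inv, ← QuotientGroup.mk_mul]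
    congr 1

theorem ev_ofO_E (hG : Good Q) (hQ : Nondeg Q) {m : ℕ} (hV : finrank F V = 2 * m) (hT : ∃ U, TSm Q m U)
    {h : V ≃ₗ[F] V} (hO : h ∈ O Q) (hE : h ∈ E Q) : Ev m (ofO h hO) := by
  classical
  have hEO : E Q ≤ O Q := E_le_O
  have hmul : ∀ (a b : V ≃ₗ[F] V) (ha : a ∈ O Q) (hb : b ∈ O Q),
      ofO (a * b) ((O Q).mul_mem ha hb) = ofO a ha * ofO b hb := fun a b ha hb => rfl
  let f : E Q →* ℤˣ :=
    { toFun := fun a => if Ev m (ofO a.1 (hEO a.2)) then 1 else -1
      map_one' := by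
        have h1 : Ev m (ofO (1 : V ≃ₗ[F] V) (O Q).one_mem) := ev_one
        change (if Ev m (ofO (1 : V ≃ₗ[F] V) (O Q).one_mem) then (1 : ℤˣ) else -1) = 1
        rw [if_pos h1]
      map_mul' := fun a b => by
        have h1 := ev_mul hQ hV hT (ofO a.1 (hEO a.2)) (ofO b.1 (hEO b.2))
        have h2 : ofO (a * b).1 (hEO (a * b).2) = ofO a.1 (hEO a.2) * ofO b.1 (hEO b.2) := rfl
        rw [h2]
        by_cases ha : Ev m (ofO a.1 (hEO a.2)) <;> by_cases hb : Ev m (ofO b.1 (hEO b.2)) <;>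
          simp [h1, ha, hb] }
  have h3 : (⟨h, hE⟩ : E Q) ∈ commutator (E Q) := by rw [commutator_E hG]; exact Subgroup.mem_top _
  have h4 : f ⟨h, hE⟩ = 1 := Abelianization.commutator_subset_ker f h3
  by_contra hc
  have h5 : f ⟨h, hE⟩ = -1 := if_neg hc
  rw [h4] at h5
  exact absurd h5 (by decide)

/-- **Semisimilitudes with nontrivial field automorphism.** -/
theorem lang_gam [Finite F] (hG : Good Q) {M : Gam Q} {σ : F ≃+* F} {c : F} (hM : IsSS Q σ c M.1) (hσ : σ ≠ 1)
    (hp : p.Prime) (h : Psi Q M ^ p = 1) : LangAt p (Psi Q M) := by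
  have hQ : Nondeg Q := hG.nondeg
  intro s hs hX
  obtain ⟨⟨a, ha⟩, rfl⟩ := QuotientGroup.mk_surjective s
  have haO : a ∈ O Q := E_le_O ha
  have h1 := psi_ofO_E haO ha
  have h2 : Psi Q (ofO a haO * M) ^ p = 1 := by
    rw [map_mul, h1]
    exact pow_conj_mul hs hX h
  have key : ∃ H : Gam Q, Psi Q (ofO a haO * M) = Psi Q H * Psi Q M * (Psi Q H)⁻¹ := by
    rcases Nat.even_or_odd (finrank F V) with he | ho
    · obtain ⟨m, hm⟩ := he
      have hV : finrank F V = 2 * m := by rw [hm]; ring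
      by_cases hT : ∃ U, TSm Q m U
      · obtain ⟨H, -, -, hc⟩ := main_plus hG hQ hV hT hM hσ lin_ofO (ev_ofO_E hG hQ hV hT haO ha) hp h h2
        exact ⟨H, hc⟩
      · obtain ⟨H, -, hc, -⟩ := main_minus hG hQ hV hT hM hσ lin_ofO hp h h2
        exact ⟨H, hc⟩
    · obtain ⟨H, -, hc⟩ := main_odd hG hQ ho hM hσ lin_ofO hp h h2
      exact ⟨H, hc⟩
  obtain ⟨H, hc⟩ := key
  refine ⟨Psi Q H, ?_⟩
  rw [← hc, map_mul, h1]

omit [FiniteDimensional F V] in
/-- The fourth power of the automorphism induced by a similitude is inner. -/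
theorem inner_gam (hG : Good Q) {M : Gam Q} {c : F} (hM : IsSS Q (RingEquiv.refl F) c M.1) :
    ∃ g : P Q, Psi Q M ^ 4 = MulAut.conj g := by
  have h2 := hM.mul hM
  have hrr : (RingEquiv.refl F).trans (RingEquiv.refl F) = RingEquiv.refl F := rfl
  rw [hrr] at h2
  set b : Fˣ := Units.mk0 c hM.ne with hb
  have hcb : (c : F) = b := rfl
  let g : V ≃ₗ[F] V :=
    { toFun := fun v => ((b⁻¹ : Fˣ) : F) • (M.1 * M.1) v
      map_add' := fun u v => by rw [h2.add, smul_add]
      map_smul' := fun a v => by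
        rw [h2.smul, RingHom.id_apply, smul_comm]; rfl
      invFun := fun v => (M.1 * M.1)⁻¹ ((b : F) • v)
      left_inv := fun v => by
        change (M.1 * M.1)⁻¹ ((b : F) • (((b⁻¹ : Fˣ) : F) • (M.1 * M.1) v)) = v
        rw [smul_smul, Units.mul_inv, one_smul]
        exact inv_apply _ _
      right_inv := fun v => by
        change ((b⁻¹ : Fˣ) : F) • (M.1 * M.1) ((M.1 * M.1)⁻¹ ((b : F) • v)) = v
        rw [apply_inv, smul_smul, Units.inv_mul, one_smul] }
  have hgO : g ∈ O Q := by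
    intro v
    change Q (((b⁻¹ : Fˣ) : F) • (M.1 * M.1) v) = Q v
    rw [QuadraticMap.map_smul, h2.form]
    change ((b⁻¹ : Fˣ) : F) * ((b⁻¹ : Fˣ) : F) * ((b : F) * (b : F) * Q v) = Q v
    have h3 : ((b⁻¹ : Fˣ) : F) * (b : F) = 1 := Units.inv_mul b
    calc ((b⁻¹ : Fˣ) : F) * ((b⁻¹ : Fˣ) : F) * ((b : F) * (b : F) * Q v)
        = (((b⁻¹ : Fˣ) : F) * (b : F)) * (((b⁻¹ : Fˣ) : F) * (b : F)) * Q v := by ring
      _ = Q v := by rw [h3, one_mul, one_mul]
  have h4 : M * M = scal Q b * ofO g hgO := by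
    apply Subtype.ext
    ext v
    change M.1 (M.1 v) = (b : F) • (((b⁻¹ : Fˣ) : F) • M.1 (M.1 v))
    rw [smul_smul, Units.mul_inv, one_smul]
  have h5 : g * g ∈ E Q := ETable.Orth.sq_mem_E hG hgO
  have h6 : (Psi Q M) ^ 2 = Psi Q (ofO g hgO) := by
    rw [pow_two, ← map_mul, h4, map_mul, Psi_scal hG, one_mul]
  refine ⟨QuotientGroup.mk (⟨g * g, h5⟩ : E Q), ?_⟩
  rw [← psi_ofO_E ((O Q).mul_mem hgO hgO) h5]
  have h7 : ofO (g * g) ((O Q).mul_mem hgO hgO) = ofO g hgO * ofO g hgO := rfl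
  rw [h7, map_mul, ← h6, ← pow_two, ← pow_mul]

/-- **Automorphisms of odd prime order induced by semisimilitudes.** -/
theorem main_gam [Finite F] (hG : Good Q) {M : Gam Q} (hp : p.Prime) (hp2 : p ≠ 2)
    (hX : orderOf (Psi Q M) = p) : (∃ g, Psi Q M = MulAut.conj g) ∨ LangAt p (Psi Q M) := by
  obtain ⟨σ, c, hM⟩ := M.2
  by_cases hσ : σ = 1
  · subst hσ
    left
    exact inner_of_pow (k := 2 ^ 2) hX (coprime_two_pow hp hp2 2) (inner_gam hG hM)
  · right
    exact lang_gam hG hM hσ hp (by rw [← hX, pow_orderOf_eq_one])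

end Abstract

section Transfer

variable {ι : Type} [Fintype ι] [DecidableEq ι] {F : Type*} [Field F] {Q : QuadraticForm F (ι → F)} {p : ℕ}

/-- **Automorphisms of odd prime order of `POmega F Q` induced by semisimilarities.** -/
theorem main [Finite F] (hG : Good Q) (hp : p.Prime) (hp2 : p ≠ 2) {X : MulAut (POmega F ⇑Q)}
    (hI : Ind ⇑Q X) (hX : orderOf X = p) : (∃ g, X = MulAut.conj g) ∨ LangAt p X := by
  obtain ⟨g, σ, hpair, hi⟩ := H198.OrthGamma.exists_pair hI
  obtain ⟨c, hc⟩ := exists_isSS hpair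
  have h1 : tr hG X = Psi Q ⟨perm g σ, σ, c, hc⟩ := (induced_iff hG rfl).1 hi
  have h2 : MulAut.congr (pe hG) X = Psi Q ⟨perm g σ, σ, c, hc⟩ := h1
  have h3 : orderOf (Psi Q ⟨perm g σ, σ, c, hc⟩) = p := by
    rw [← h2, MulEquiv.orderOf_eq, hX]
  rcases main_gam hG hp hp2 h3 with ⟨s, hs⟩ | h4
  · left
    refine ⟨(pe hG).symm s, ?_⟩
    apply (MulAut.congr (pe hG)).injective
    rw [h2, hs]
    ext y
    simp only [MulAut.congr, MulEquiv.coe_mk, Equiv.coe_fn_mk, MulEquiv.trans_apply, MulAut.conj_apply, map_mul,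
      map_inv, MulEquiv.apply_symm_apply]
  · right
    rw [← h2] at h4
    exact langAt_of_congr (pe hG) h4

end Transfer

section Families

variable {F : Type*} [Field F] {p : ℕ}

/-- odd dimension -/
theorem odd [Finite F] (h2 : (2 : F) ≠ 0) {m : ℕ} (hm : 3 ≤ m) (hp : p.Prime) (hp2 : p ≠ 2)
    {X : MulAut (POmega F (quadFormOdd m F))} (hX : orderOf X = p) :
    (∃ g, X = MulAut.conj g) ∨ LangAt p X := by
  have hI := all_odd hm h2 X
  revert X
  rw [← coe_oddForm]
  intro X hX hI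
  exact main (good_odd (by omega) h2) hp hp2 hI hX

/-- minus type, dimension `2 m + 2` -/
theorem minus [Finite F] {m : ℕ} (hm : 3 ≤ m) {a b : F}
    (hab : ∀ z₁ z₂ : F, z₁ ^ 2 + a * z₁ * z₂ + b * z₂ ^ 2 = 0 → z₁ = 0 ∧ z₂ = 0) (hp : p.Prime) (hp2 : p ≠ 2)
    {X : MulAut (POmega F (quadFormMinus m F a b))} (hX : orderOf X = p) :
    (∃ g, X = MulAut.conj g) ∨ LangAt p X := by
  have hI := all_minus hm hab X
  revert X
  rw [← coe_minusForm]
  intro X hX hI
  exact main (good_minus (by omega) hab) hp hp2 hI hX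

/-- plus type, automorphisms induced by semisimilarities -/
theorem plus_ind [Finite F] {m : ℕ} (hm : 3 ≤ m) (hp : p.Prime) (hp2 : p ≠ 2)
    {X : MulAut (POmega F (quadFormPlus m F))} (hI : Ind (quadFormPlus m F) X) (hX : orderOf X = p) :
    (∃ g, X = MulAut.conj g) ∨ LangAt p X := by
  revert X
  rw [← coe_plusForm]
  intro X hI hX
  exact main (good_plus hm) hp hp2 hI hX

/-- plus type, dimension `≥ 10` -/
theorem plus [Finite F] {m : ℕ} (hm : 5 ≤ m) (hp : p.Prime) (hp2 : p ≠ 2)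
    {X : MulAut (POmega F (quadFormPlus m F))} (hX : orderOf X = p) :
    (∃ g, X = MulAut.conj g) ∨ LangAt p X :=
  plus_ind (by omega) hp hp2 (all_plus hm X) hX

/-- An element of prime order `p ≥ 5` lies in every subgroup of index three. -/
theorem mem_of_index_three {A : Type*} [Group A] {H : Subgroup A} (hH : H.index = 3) (hp : p.Prime) (hp5 : 5 ≤ p)
    {x : A} (hx : orderOf x = p) : x ∈ H := by
  apply H.normalCore_le
  rw [Subgroup.normalCore_eq_ker, MonoidHom.mem_ker]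
  have hfin : Finite (A ⧸ H) := Nat.finite_of_card_ne_zero (by
    rw [← Subgroup.index_eq_card, hH]; decide)
  have h1 : orderOf (MulAction.toPermHom A (A ⧸ H) x) ∣ p := by
    rw [← hx]; exact orderOf_map_dvd _ x
  rcases (Nat.dvd_prime hp).1 h1 with h2 | h2
  · exact orderOf_eq_one_iff.1 h2
  · exfalso
    have h3 : orderOf (MulAction.toPermHom A (A ⧸ H) x) ∣ Nat.card (Equiv.Perm (A ⧸ H)) := orderOf_dvd_natCard _
    rw [h2, Nat.card_perm, ← Subgroup.index_eq_card, hH] at h3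
    have h4 := hp.dvd_factorial.1 h3
    omega

/-- plus type, dimension `8`, `p ≥ 5` -/
theorem plus_four [Finite F] (hp : p.Prime) (hp5 : 5 ≤ p)
    {X : MulAut (POmega F (quadFormPlus 4 F))} (hX : orderOf X = p) :
    (∃ g, X = MulAut.conj g) ∨ LangAt p X := by
  revert X
  rw [← coe_plusForm]
  intro X hX
  have hG : Good (plusForm 4 F) := good_plus (by norm_num)
  obtain ⟨Γ, hΓ, hind⟩ := Cfsg.Agent.ClassicalGeometry.TrialityFinal.exists_index_three hG
    fun α x hx hx0 => by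
      rcases Cfsg.Agent.ClassicalGeometry.OrthAut3.dichotomy hG (by simp) α hx hx0 with h | h
      · exact Or.inl h
      · exact Or.inr h.2
  have h1 : tr hG X ∈ Γ := by
    refine mem_of_index_three hind hp hp5 ?_
    rw [← trE_apply, MulEquiv.orderOf_eq, hX]
  exact main hG hp (by omega) ((ind_iff_pt hG (by simp) X).2 ((hΓ _).1 h1)) hX

end Families

end Cfsg.Agent.H628.ZOutOrth
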