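import Mathlib
import Cfsg.Prelude.Def_Blocks
import Cfsg.Agent.Characters.Core
import Cfsg.Agent.Characters.Brauer
import Cfsg.Agent.Characters.Linear
import Cfsg.Agent.Characters.Values
import Cfsg.Agent.Blocks.Basic
import Cfsg.Agent.Blocks.Deflate
import Cfsg.Agent.Blocks.OrbitSum
import Cfsg.Agent.Transfer.TateComplement
import Cfsg.Agent.H710.PPrimeDeg
import Cfsg.Agent.Lib.Cores

/-!
# The intersection of the kernels of the characters of degree prime to `p` (helper628)

* `apply_of_normal_fpf` : a normal subgroup `N` with `C_N(P) = 1` (`P` a `p`-subgroup) lies in the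
  kernel of every irreducible character of degree prime to `p`.
* `exists_over` : `H ≤ G` of index prime to `p`, `φ` a character of `H` of degree prime to `p`: some
  irreducible character of `G` of degree prime to `p` lies over `φ`.
* `ppKer p G` : the intersection of the kernels; `ker_under` : `ppKer p G ∩ H` is in the kernel of
  every irreducible character of degree prime to `p` of a subgroup `H` of index prime to `p`.
-/

set_option autoImplicit false

namespace Cfsg.Agent.H628.PPrimeKer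

open Cfsg Subgroup Cfsg.Agent.Characters.Core Cfsg.Agent.Blocks
open scoped ComplexConjugate

universe u

variable {G : Type u} [Group G]

/-- An element on which the irreducible character `χ` takes the value `χ 1` acts trivially. -/
theorem apply_mul_eq [Finite G] {χ : G → ℂ} (hχ : IsIrrCharacter G χ) {g : G} (hg : χ g = χ 1)
    (x : G) : χ (g * x) = χ x := by
  obtain ⟨n, ρ, hρ, rfl⟩ := hχ
  have h1 : ρ g = LinearMap.id :=
    (Cfsg.Agent.Characters.Values.character_eq_finrank_iff ρ g).1 (by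
      rw [hg, Representation.char_one])
  have h2 : ρ (g * x) = ρ x := by
    rw [map_mul, h1]
    rfl
  show LinearMap.trace ℂ _ (ρ (g * x)) = LinearMap.trace ℂ _ (ρ x)
  rw [h2]

/-- A sum over a normal subgroup which is not zero: the normal subgroup is in the kernel. -/
theorem apply_eq_of_sum_ne_zero [Finite G] (N : Subgroup G) [N.Normal] [Fintype N] {χ : G → ℂ}
    (hχ : IsIrrCharacter G χ) (hsum : ∑ n : N, χ n ≠ 0) {n : G} (hn : n ∈ N) : χ n = χ 1 := by
  obtain ⟨χ', hχ'⟩ := Deflate.exists_deflation N χ hχ hsum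
  rw [hχ']
  show (χ' : G ⧸ N → ℂ) (n : G ⧸ N) = (χ' : G ⧸ N → ℂ) ((1 : G) : G ⧸ N)
  rw [(QuotientGroup.eq_one_iff n).2 hn, QuotientGroup.mk_one]

/-- `p ∣ d` if the integer `d` is `p` times an algebraic integer. -/
theorem dvd_of_integral {p d : ℕ} (hp : p ≠ 0) {a : ℂ} (ha : IsIntegral ℤ a)
    (h : (d : ℂ) = p * a) : p ∣ d := by
  have hp' : (p : ℚ) ≠ 0 := Nat.cast_ne_zero.2 hp
  have h1 : a = (((d : ℚ) / p : ℚ) : ℂ) := by
    push_cast
    rw [h]
    field_simp
  rw [h1] at ha
  have h2 : IsIntegral ℤ ((d : ℚ) / p : ℚ) := by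
    have h3 : IsIntegral ℤ (algebraMap ℚ ℂ ((d : ℚ) / p : ℚ)) := ha
    exact (isIntegral_algebraMap_iff (algebraMap ℚ ℂ).injective).1 h3
  obtain ⟨z, hz⟩ := IsIntegrallyClosed.isIntegral_iff.1 h2
  have h4 : (d : ℚ) = p * z := by
    have h5 : (z : ℚ) = (d : ℚ) / p := hz
    rw [h5]
    field_simp
  have h6 : (d : ℤ) = p * z := by exact_mod_cast h4
  exact Int.natCast_dvd_natCast.1 ⟨z, h6⟩

/-- A normal subgroup `N` with `C_N(P) = 1` lies in the kernel of the irreducible characters of
degree prime to `p`. -/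
theorem apply_of_normal_fpf [Finite G] {p : ℕ} [Fact p.Prime] (P : Subgroup G) (hP : IsPGroup p P)
    (N : Subgroup G) [N.Normal] (hN : N ⊓ centralizer (P : Set G) = ⊥)
    {χ : G → ℂ} (hχ : IsIrrCharacter G χ) (hpd : ¬ p ∣ charDegree χ) {n : G} (hn : n ∈ N) :
    χ n = χ 1 := by
  classical
  have := Fintype.ofFinite G
  have := Fintype.ofFinite N
  refine apply_eq_of_sum_ne_zero N hχ ?_ hn
  intro h0
  apply hpd
  obtain ⟨k, ρ, hρ, hρχ⟩ := hχ
  have hint : ∀ x, IsIntegral ℤ (χ x) := by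
    intro x
    rw [← hρχ]
    exact Cfsg.Agent.Characters.Values.character_isIntegral ρ x
  have hirr : IsIrrCharacter G χ := ⟨k, ρ, hρ, hρχ⟩
  let f : G → integralClosure ℤ ℂ := fun x => ⟨χ x, hint x⟩
  let X : Finset G := (Finset.univ.filter (fun x : G => x ∈ N)).erase 1
  have hXmem : ∀ x, x ∈ X ↔ x ≠ 1 ∧ x ∈ N := by
    intro x
    simp [X]
  obtain ⟨a, ha⟩ := OrbitSum.sum_eq_smul_of_disjoint_centralizer P hP X (by
      intro u _ x hx
      rw [hXmem] at hx ⊢
      refine ⟨fun h => hx.1 ?_, (inferInstance : N.Normal).conj_mem x hx.2 u⟩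
      exact conj_eq_one_iff.1 h) (by
      intro x hx hxc
      rw [hXmem] at hx
      apply hx.1
      have : x ∈ N ⊓ centralizer (P : Set G) := ⟨hx.2, hxc⟩
      rwa [hN, mem_bot] at this) f (by
      intro u _ x _
      exact Subtype.ext (isIrr_isClassFunction hirr x u))
  have h1 : ∑ x ∈ X, χ x = (p : ℂ) * (a : ℂ) := by
    have h2 := congrArg (Subtype.val) ha
    have h3 : ((∑ x ∈ X, f x : integralClosure ℤ ℂ) : ℂ) = ∑ x ∈ X, χ x := by
      rw [AddSubmonoidClass.coe_finsetSum]
    rw [← h3, h2]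
    simp
  have h2 : ∑ n : N, χ n = χ 1 + ∑ x ∈ X, χ x := by
    have h3 : ∑ n : N, χ n = ∑ x ∈ Finset.univ.filter (fun x : G => x ∈ N), χ x := by
      rw [Finset.sum_subtype (Finset.univ.filter (fun x : G => x ∈ N)) (p := fun x => x ∈ N)
        (by intro x; simp)]
    rw [h3, ← Finset.add_sum_erase _ _ (show (1 : G) ∈ Finset.univ.filter (fun x : G => x ∈ N) by
      simp [N.one_mem])]
  rw [h0, h1, Basic.irr_one_eq_charDegree hirr] at h2
  refine dvd_of_integral (Nat.Prime.ne_zero Fact.out) (a := -(a : ℂ)) a.2.neg ?_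
  linear_combination -h2

/-- Over a character of degree prime to `p` of a subgroup of index prime to `p` there is an
irreducible character of degree prime to `p`. -/
theorem exists_over [Fintype G] {p : ℕ} [Fact p.Prime] (H : Subgroup G) [Fintype H]
    (hH : ¬ p ∣ H.index) {φ : H → ℂ} (hφ : IsCharacter H φ) {d : ℕ} (hd : φ 1 = d)
    (hpd : ¬ p ∣ d) : ∃ χ : IrrCharacter G, ¬ p ∣ charDegree (χ : G → ℂ) ∧
      classInner φ (fun h : H => (χ : G → ℂ) h) ≠ 0 := by
  classical
  have hfin := finite_irr (G := G)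
  have := Fintype.ofFinite (IrrCharacter G)
  obtain ⟨m, hm⟩ := exists_nat_comb (Cfsg.Agent.Characters.Brauer.isCharacter_indFun H hφ)
  have h1 : indFun H φ 1 = ((H.index * d : ℕ) : ℂ) := by
    rw [Cfsg.Agent.Characters.Brauer.indFun_apply]
    have h2 : ∀ x : G, extendByZero H φ (x⁻¹ * 1 * x) = d := by
      intro x
      rw [mul_one, inv_mul_cancel, extendByZero_of_mem H φ H.one_mem, ← hd]
      rfl
    rw [Finset.sum_congr rfl fun x _ => h2 x, Finset.sum_const, Finset.card_univ, nsmul_eq_mul,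
      ← Nat.card_eq_fintype_card, ← H.index_mul_card]
    have hc : (Nat.card H : ℂ) ≠ 0 := by exact_mod_cast Nat.card_pos.ne'
    push_cast
    field_simp
  have h2 : H.index * d = ∑ ψ : IrrCharacter G, m ψ * charDegree (ψ : G → ℂ) := by
    have h3 := congrFun hm 1
    rw [h1, Finset.sum_apply] at h3
    have h4 : ((H.index * d : ℕ) : ℂ) =
        ((∑ ψ : IrrCharacter G, m ψ * charDegree (ψ : G → ℂ) : ℕ) : ℂ) := by
      rw [h3]
      push_cast
      refine Finset.sum_congr rfl fun ψ _ => ?_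
      rw [Pi.smul_apply, nsmul_eq_mul, Basic.irr_one_eq_charDegree ψ.2]
    exact_mod_cast h4
  have hp : p.Prime := Fact.out
  have h3 : ¬ p ∣ H.index * d := fun h => by
    rcases (hp.dvd_mul).1 h with h | h
    · exact hH h
    · exact hpd h
  rw [h2] at h3
  obtain ⟨χ, -, hχ⟩ : ∃ χ ∈ (Finset.univ : Finset (IrrCharacter G)),
      ¬ p ∣ m χ * charDegree (χ : G → ℂ) := by
    by_contra hcon
    push Not at hcon
    exact h3 (Finset.dvd_sum hcon)
  refine ⟨χ, fun h => hχ (h.mul_left _), ?_⟩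
  rw [← Cfsg.Agent.Characters.Brauer.classInner_indFun H _ φ _ (isIrr_isClassFunction χ.2), hm,
    classInner_sum_nsmul_irr]
  intro h0
  apply hχ
  have h5 : m χ = 0 := by exact_mod_cast h0
  rw [h5, zero_mul]
  exact dvd_zero p

/-- The intersection of the kernels of the irreducible characters of degree prime to `p`. -/
def ppKer (p : ℕ) (G : Type u) [Group G] : Subgroup G where
  carrier := {g | ∀ χ : IrrCharacter G, ¬ p ∣ charDegree (χ : G → ℂ) →
    ∀ x, (χ : G → ℂ) (g * x) = (χ : G → ℂ) x}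
  one_mem' := fun χ _ x => by rw [one_mul]
  mul_mem' := fun {a b} ha hb χ h x => by rw [mul_assoc, ha χ h, hb χ h]
  inv_mem' := fun {a} ha χ h x => by rw [← ha χ h (a⁻¹ * x), mul_inv_cancel_left]

theorem mem_ppKer {p : ℕ} {g : G} : g ∈ ppKer p G ↔ ∀ χ : IrrCharacter G,
    ¬ p ∣ charDegree (χ : G → ℂ) → ∀ x, (χ : G → ℂ) (g * x) = (χ : G → ℂ) x := Iff.rfl

theorem mem_ppKer_iff [Finite G] {p : ℕ} {g : G} : g ∈ ppKer p G ↔ ∀ χ : IrrCharacter G,
    ¬ p ∣ charDegree (χ : G → ℂ) → (χ : G → ℂ) g = (χ : G → ℂ) 1 := by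
  rw [mem_ppKer]
  refine ⟨fun h χ hχ => ?_, fun h χ hχ x => apply_mul_eq χ.2 (h χ hχ) x⟩
  have := h χ hχ 1
  rwa [mul_one] at this

theorem ppKer_normal (p : ℕ) (G : Type u) [Group G] : (ppKer p G).Normal := by
  refine ⟨fun n hn g χ hχ x => ?_⟩
  have h1 : g * n * g⁻¹ * x = g * (n * (g⁻¹ * x * g)) * g⁻¹ := by group
  rw [h1, isIrr_isClassFunction χ.2 _ g, hn χ hχ]
  have h2 : x = g * (g⁻¹ * x * g) * g⁻¹ := by group
  conv_rhs => rw [h2]
  rw [isIrr_isClassFunction χ.2 _ g]

/-- `ppKer p G ∩ H` is in the kernel of the irreducible characters of degree prime to `p` of the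
subgroup `H` of index prime to `p`. -/
theorem ker_under [Finite G] {p : ℕ} [Fact p.Prime] (H : Subgroup G)
    (hH : ¬ p ∣ H.index) {φ : H → ℂ} (hφ : IsIrrCharacter H φ) (hpd : ¬ p ∣ charDegree φ)
    {x : H} (hx : (x : G) ∈ ppKer p G) : φ x = φ 1 := by
  classical
  have := Fintype.ofFinite G
  have := Fintype.ofFinite H
  let M : Subgroup H := (ppKer p G).subgroupOf H
  have hn := ppKer_normal p G
  have hM : M.Normal := hn.subgroupOf H
  have := Fintype.ofFinite M
  obtain ⟨χ, hχ, hne⟩ := exists_over H hH (isIrr_isCharacter hφ)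
    (Basic.irr_one_eq_charDegree hφ) hpd
  refine apply_eq_of_sum_ne_zero M hφ ?_ (mem_subgroupOf.2 hx)
  intro h0
  -- all translates of the sum vanish
  have hsum : ∀ y : H, ∑ m : M, φ (m * y) = 0 := by
    intro y
    obtain ⟨n, ρ, hρ, rfl⟩ := hφ
    set T : Module.End ℂ (Fin n → ℂ) := ∑ m : M, ρ m with hT
    have htr : LinearMap.trace ℂ _ T = 0 := by
      rw [hT, map_sum]
      exact h0
    have hTT : T * T = (Fintype.card M : ℂ) • T := by
      rw [hT, Finset.sum_mul]
      have h5 : ∀ m : M, ρ m * ∑ m' : M, ρ m' = ∑ m' : M, ρ m' := by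
        intro m
        rw [Finset.mul_sum]
        refine Fintype.sum_equiv (Equiv.mulLeft m) _ _ fun m' => ?_
        rw [← map_mul]
        rfl
      rw [Finset.sum_congr rfl fun m _ => h5 m, Finset.sum_const, Finset.card_univ,
        ← Nat.cast_smul_eq_nsmul ℂ]
    -- an idempotent of trace zero vanishes
    have hc : (Fintype.card M : ℂ) ≠ 0 := by exact_mod_cast Fintype.card_ne_zero
    have hE : IsIdempotentElem ((Fintype.card M : ℂ)⁻¹ • T) := by
      show ((Fintype.card M : ℂ)⁻¹ • T) * ((Fintype.card M : ℂ)⁻¹ • T) = _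
      rw [smul_mul_smul_comm, hTT, smul_smul]
      congr 1
      field_simp
    have hE0 : (Fintype.card M : ℂ)⁻¹ • T = 0 := by
      have h6 := LinearMap.IsIdempotentElem.isProj_range _ hE
      have h7 := h6.trace
      rw [map_smul, htr, smul_zero] at h7
      have h8 : Module.finrank ℂ (LinearMap.range ((Fintype.card M : ℂ)⁻¹ • T)) = 0 := by
        exact_mod_cast h7.symm
      rw [Submodule.finrank_eq_zero, LinearMap.range_eq_bot] at h8
      exact h8
    have hT0 : T = 0 := by
      rcases smul_eq_zero.1 hE0 with h | h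
      · exact absurd (inv_eq_zero.1 h) hc
      · exact h
    have h9 : ∑ m : M, ρ.character (m * y) = LinearMap.trace ℂ _ (T * ρ y) := by
      rw [hT, Finset.sum_mul, map_sum]
      refine Finset.sum_congr rfl fun m _ => ?_
      rw [← map_mul]
      rfl
    rw [h9, hT0, zero_mul, map_zero]
  apply hne
  rw [classInner_def]
  have hMχ : ∀ (m : M) (y : H), (χ : G → ℂ) (((m : H) * y : H) : G) = (χ : G → ℂ) y := by
    intro m y
    rw [coe_mul]
    exact mem_subgroupOf.1 m.2 χ hχ y
  have h1 : ∀ m : M, ∑ y : H, φ (m * y) * conj ((χ : G → ℂ) y) =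
      ∑ y : H, φ y * conj ((χ : G → ℂ) y) := by
    intro m
    refine Fintype.sum_equiv (Equiv.mulLeft (m : H)) _ _ fun y => ?_
    show φ (m * y) * conj ((χ : G → ℂ) y) = φ (m * y) * conj ((χ : G → ℂ) (((m : H) * y : H) : G))
    rw [hMχ]
  have h2 : (Fintype.card M : ℂ) * ∑ y : H, φ y * conj ((χ : G → ℂ) y) = 0 := by
    have h3 : (Fintype.card M : ℂ) * ∑ y : H, φ y * conj ((χ : G → ℂ) y) =
        ∑ m : M, ∑ y : H, φ (m * y) * conj ((χ : G → ℂ) y) := by
      rw [Finset.sum_congr rfl fun m _ => h1 m, Finset.sum_const, Finset.card_univ, nsmul_eq_mul]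
    rw [h3, Finset.sum_comm]
    refine Finset.sum_eq_zero fun y _ => ?_
    rw [← Finset.sum_mul, hsum y, zero_mul]
  have hc : (Fintype.card M : ℂ) ≠ 0 := by exact_mod_cast Fintype.card_ne_zero
  rw [(mul_eq_zero.1 h2).resolve_left hc, mul_zero]

/-- An element of a finite group killed by all linear characters is in the derived subgroup. -/
theorem mem_commutator_of_hom {Q : Type*} [Group Q] [Finite Q] {x : Q}
    (h : ∀ f : Q →* ℂˣ, f x = 1) : x ∈ commutator Q := by
  by_contra hx
  have h1 : (Abelianization.of x) ≠ 1 := by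
    intro h2
    apply hx
    exact (QuotientGroup.eq_one_iff x).1 h2
  have : Finite (Abelianization Q) := inferInstance
  obtain ⟨φ, hφ⟩ := CommGroup.exists_apply_ne_one_of_hasEnoughRootsOfUnity (Abelianization Q) ℂ h1
  exact hφ (h (φ.comp Abelianization.of))

end Cfsg.Agent.H628.PPrimeKer
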