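import Mathlib
import Cfsg.Agent.S0075
import Cfsg.Agent.S0215
import Cfsg.Agent.OddHalf.EightTorus.AbelAut

/-!
# Automorphisms centralizing an abelian Sylow 2-subgroup (helper628)

Let `K` be a finite group with `Z(K) = 1`, `O(K) = 1` and an abelian Sylow 2-subgroup `V`. An automorphism of `K`
of 2-power order which centralizes `V` is the conjugation by an element of `V` (`eq_conj`). Same proof as
`OddHalf.EightTorus.AbelAut`: Burnside, transfer and the `Z*`-theorem.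
-/

set_option autoImplicit false

namespace Cfsg.Agent.H628.AbelAutGen

open Subgroup

/-- the theorem in a group `H = I⟨a⟩` -/
theorem mem_of_abelian {H : Type*} [Group H] [Finite H] (I V : Subgroup H) [I.Normal]
    (hcore : ∀ O : Subgroup H, O.Normal → O ≤ I → Odd (Nat.card O) → O = ⊥)
    (hcen : ∀ x : H, (∀ i ∈ I, x * i = i * x) → x = 1)
    (hVI : V ≤ I) (hV2 : IsPGroup 2 V) (hodd : ¬ 2 ∣ V.relIndex I)
    (hVc : ∀ x ∈ V, ∀ y ∈ V, x * y = y * x) {a : H} (hgen : ∀ h : H, ∃ i ∈ I, ∃ k : ℤ, h = i * a ^ k)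
    (ha2 : IsPGroup 2 (zpowers a)) (haV : ∀ v ∈ V, a * v = v * a) : a ∈ V := by
  classical
  have h2 : Fact (Nat.Prime 2) := ⟨Nat.prime_two⟩
  have hakV : ∀ (k : ℤ), ∀ v ∈ V, a ^ k * v = v * a ^ k := fun k v hv =>
    ((show Commute a v from haV v hv).zpow_left k)
  -- the subgroup `V⟨a⟩`
  let B : Subgroup H :=
    { carrier := {x | ∃ v ∈ V, ∃ k : ℤ, x = v * a ^ k}
      one_mem' := ⟨1, one_mem _, 0, by simp⟩
      mul_mem' := by
        rintro _ _ ⟨v, hv, k, rfl⟩ ⟨w, hw, l, rfl⟩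
        refine ⟨v * w, mul_mem hv hw, k + l, ?_⟩
        rw [zpow_add, mul_assoc, ← mul_assoc (a ^ k), hakV k w hw]
        group
      inv_mem' := by
        rintro _ ⟨v, hv, k, rfl⟩
        refine ⟨v⁻¹, inv_mem hv, -k, ?_⟩
        rw [mul_inv_rev, ← zpow_neg, hakV (-k) _ (inv_mem hv)] }
  have hBmem : ∀ x, x ∈ B ↔ ∃ v ∈ V, ∃ k : ℤ, x = v * a ^ k := fun x => Iff.rfl
  have hVB : V ≤ B := fun v hv => ⟨v, hv, 0, by simp⟩
  have haB : a ∈ B := ⟨1, one_mem _, 1, by simp⟩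
  have hB2 : IsPGroup 2 B := by
    rintro ⟨x, v, hv, k, rfl⟩
    obtain ⟨m, hm⟩ := hV2 ⟨v, hv⟩
    obtain ⟨n, hn⟩ := ha2 ⟨a ^ k, zpow_mem (mem_zpowers a) k⟩
    have hm' : v ^ 2 ^ m = 1 := congrArg Subtype.val hm
    have hn' : (a ^ k) ^ 2 ^ n = 1 := congrArg Subtype.val hn
    refine ⟨m + n, Subtype.ext ?_⟩
    have hc : Commute v (a ^ k) := (hakV k v hv).symm
    show (v * a ^ k) ^ 2 ^ (m + n) = 1
    rw [hc.mul_pow]
    have h3 : v ^ 2 ^ (m + n) = 1 := by rw [pow_add, pow_mul, hm', one_pow]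
    have h4 : (a ^ k) ^ 2 ^ (m + n) = 1 := by rw [pow_add, mul_comm, pow_mul, hn', one_pow]
    rw [h3, h4, one_mul]
  obtain ⟨S, hBS⟩ := hB2.exists_le_sylow
  -- `S ∩ I = V`
  have hSI : (S : Subgroup H) ⊓ I ≤ V := by
    have h3 : V ≤ (S : Subgroup H) ⊓ I := le_inf (hVB.trans hBS) hVI
    have h4 := Subgroup.relIndex_mul_relIndex V ((S : Subgroup H) ⊓ I) I h3 inf_le_right
    have h5 : ¬ 2 ∣ V.relIndex ((S : Subgroup H) ⊓ I) := fun h => hodd (h4 ▸ h.mul_right _)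
    have hp : IsPGroup 2 ((S : Subgroup H) ⊓ I : Subgroup H) := S.isPGroup'.to_le inf_le_left
    obtain ⟨m, hm⟩ := hp.index (V.subgroupOf ((S : Subgroup H) ⊓ I))
    have hm' : V.relIndex ((S : Subgroup H) ⊓ I) = 2 ^ m := hm
    have hm0 : m = 0 := by
      by_contra h
      apply h5
      rw [hm']
      exact dvd_pow_self 2 h
    rw [hm0, pow_zero, Subgroup.relIndex_eq_one] at hm'
    exact hm'
  have hSB : (S : Subgroup H) ≤ B := by
    intro s hs
    obtain ⟨i, hi, k, hk⟩ := hgen s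
    have h3 : i = s * (a ^ k)⁻¹ := by rw [hk]; group
    have h4 : i ∈ (S : Subgroup H) := by
      rw [h3]
      exact mul_mem hs (inv_mem (zpow_mem (hBS haB) k))
    exact ⟨i, hSI ⟨h4, hi⟩, k, hk⟩
  have hcomm : ∀ x ∈ (S : Subgroup H), ∀ y ∈ (S : Subgroup H), x * y = y * x := by
    intro x hx y hy
    obtain ⟨v, hv, k, rfl⟩ := hSB hx
    obtain ⟨w, hw, l, rfl⟩ := hSB hy
    have e1 : v * a ^ k * (w * a ^ l) = v * w * (a ^ k * a ^ l) := by
      rw [mul_assoc, ← mul_assoc (a ^ k), hakV k w hw]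
      group
    have e2 : w * a ^ l * (v * a ^ k) = w * v * (a ^ l * a ^ k) := by
      rw [mul_assoc, ← mul_assoc (a ^ l), hakV l v hv]
      group
    rw [e1, e2, hVc v hv w hw, ← zpow_add, ← zpow_add, add_comm]
  have hS : IsMulCommutative (S : Subgroup H) := ⟨⟨fun x y => Subtype.ext (hcomm x x.2 y y.2)⟩⟩
  -- commutators with the normalizer lie in `V`
  have hres : Cfsg.pResidual 2 H ≤ I := by
    rw [Cfsg.pResidual, closure_le]
    intro g hg
    -- `H / I` is a 2-group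
    have hq : ∀ h : H, ∃ n : ℕ, h ^ 2 ^ n ∈ I := by
      intro h
      obtain ⟨i, hi, k, rfl⟩ := hgen h
      obtain ⟨n, hn⟩ := ha2 ⟨a ^ k, zpow_mem (mem_zpowers a) k⟩
      have hn' : (a ^ k) ^ 2 ^ n = 1 := congrArg Subtype.val hn
      refine ⟨n, ?_⟩
      rw [← QuotientGroup.eq_one_iff (N := I)]
      have h3 : ((i * a ^ k : H) : H ⧸ I) = ((a ^ k : H) : H ⧸ I) := by
        rw [QuotientGroup.mk_mul, (QuotientGroup.eq_one_iff i).2 hi, one_mul]
      rw [QuotientGroup.mk_pow, h3, ← QuotientGroup.mk_pow, hn', QuotientGroup.mk_one]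
    obtain ⟨n, hn⟩ := hq g
    have hg' : Nat.Coprime (orderOf g) 2 := hg
    have hg2 : Nat.Coprime (2 ^ n) (orderOf g) := (Nat.Coprime.pow_right n hg').symm
    obtain ⟨m, hm⟩ := exists_pow_eq_self_of_coprime hg2
    rw [SetLike.mem_coe, ← hm]
    exact pow_mem hn m
  have hW : ∀ n ∈ normalizer (S : Set H), ∀ u ∈ (S : Subgroup H), n * u * n⁻¹ * u⁻¹ ∈ V := by
    intro n hn u hu
    have h3 := Cfsg.Agent.S0075.result S hS
    have h4 : n * u * n⁻¹ * u⁻¹ ∈ ⁅(S : Subgroup H), normalizer (S : Set H)⁆ := by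
      rw [commutator_comm]
      exact commutator_mem_commutator hn hu
    rw [← h3] at h4
    exact hSI ⟨h4.1, hres h4.2⟩
  obtain ⟨c, hcS, w, hw, hcn, hcw⟩ := Cfsg.Agent.OddHalf.EightTorus.AbelAut.exists_fixed S hcomm hW (hBS haB)
  by_cases hc1 : c = 1
  · rw [hc1, one_mul] at hcw
    rwa [← hcw]
  exfalso
  -- the involution of `⟨c⟩`
  obtain ⟨z, hzc, hz2⟩ : ∃ z ∈ zpowers c, orderOf z = 2 := by
    obtain ⟨n, hn⟩ := (IsPGroup.iff_orderOf.1 S.isPGroup') ⟨c, hcS⟩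
    rw [Subgroup.orderOf_mk] at hn
    have hn0 : n ≠ 0 := by
      rintro rfl
      rw [pow_zero, orderOf_eq_one_iff] at hn
      exact hc1 hn
    obtain ⟨m, rfl⟩ := Nat.exists_eq_succ_of_ne_zero hn0
    refine ⟨c ^ 2 ^ m, ⟨(2 ^ m : ℕ), zpow_natCast c _⟩, ?_⟩
    rw [orderOf_pow, hn, Nat.succ_eq_add_one, pow_succ, Nat.gcd_mul_right_left,
      Nat.mul_div_cancel_left _ (pow_pos two_pos m)]
  have hzS : z ∈ (S : Subgroup H) := (zpowers_le.2 hcS) hzc
  have hzn : ∀ n ∈ normalizer (S : Set H), n * z * n⁻¹ = z := by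
    intro n hn
    obtain ⟨k, rfl⟩ := mem_zpowers_iff.1 hzc
    rw [← conj_zpow, hcn n hn]
  obtain ⟨O, hO, hOodd, hOc⟩ := Cfsg.Agent.S0215.result S z hz2 hzS (by
    intro g hg
    obtain ⟨n, hn, h3⟩ := Sylow.conj_eq_normalizer_conj_of_mem S z g⁻¹ hzS (by rwa [inv_inv])
    rw [inv_inv] at h3
    rw [h3]
    have h4 := hzn n⁻¹ (inv_mem hn)
    rwa [inv_inv] at h4)
  -- `O` is trivial
  have hOI : O ⊓ I = ⊥ := by
    have h3 : (O ⊓ I).Normal := inferInstance
    exact hcore _ h3 inf_le_right (hOodd.of_dvd_nat (card_dvd_of_le inf_le_left))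
  have hz1 : z = 1 := by
    apply hcen
    intro i hi
    have h3 : z * i * z⁻¹ * i⁻¹ ∈ O ⊓ I := by
      refine ⟨hOc i, ?_⟩
      have h4 : z * i * z⁻¹ ∈ I := (inferInstance : I.Normal).conj_mem i hi z
      exact I.mul_mem h4 (I.inv_mem hi)
    rw [hOI, mem_bot, mul_inv_eq_one, mul_inv_eq_iff_eq_mul] at h3
    exact h3
  rw [hz1, orderOf_one] at hz2
  omega

/-- **An automorphism of 2-power order of a group `K` with `Z(K) = O(K) = 1` which centralizes an abelian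
Sylow 2-subgroup is inner.** -/
theorem eq_conj {K : Type*} [Group K] [Finite K] (hZ : center K = ⊥)
    (hcore : ∀ O : Subgroup K, O.Normal → Odd (Nat.card O) → O = ⊥)
    (S : Sylow 2 K) (hS : ∀ x ∈ (S : Subgroup K), ∀ y ∈ (S : Subgroup K), x * y = y * x)
    (α : MulAut K) (hα : IsPGroup 2 (zpowers α))
    (hfix : ∀ s ∈ (S : Subgroup K), α s = s) : ∃ v ∈ (S : Subgroup K), ∀ x, α x = v * x * v⁻¹ := by
  classical
  have hinj : Function.Injective (MulAut.conj (G := K)) := by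
    rw [injective_iff_map_eq_one]
    intro x hx
    have h1 : x ∈ center K := by
      rw [mem_center_iff]
      intro y
      have h2 := DFunLike.congr_fun hx y
      rw [MulAut.conj_apply, MulAut.one_apply, mul_inv_eq_iff_eq_mul] at h2
      exact h2.symm
    rwa [hZ, mem_bot] at h1
  have hconj : ∀ (φ : MulAut K) (x : K), φ * MulAut.conj x * φ⁻¹ = MulAut.conj (φ x) := by
    intro φ x
    ext y
    simp [MulAut.mul_apply, MulAut.conj_apply]
  let R : Subgroup (MulAut K) := (MulAut.conj (G := K)).range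
  have hRn : R.Normal := by
    refine ⟨?_⟩
    rintro _ ⟨x, rfl⟩ φ
    exact ⟨φ x, (hconj φ x).symm⟩
  let H : Subgroup (MulAut K) :=
    { carrier := {x | ∃ i ∈ R, ∃ k : ℤ, x = i * α ^ k}
      one_mem' := ⟨1, one_mem _, 0, by simp⟩
      mul_mem' := by
        rintro _ _ ⟨i, hi, k, rfl⟩ ⟨j, hj, l, rfl⟩
        refine ⟨i * (α ^ k * j * (α ^ k)⁻¹), mul_mem hi (hRn.conj_mem j hj _), k + l, ?_⟩
        rw [zpow_add]
        group
      inv_mem' := by
        rintro _ ⟨i, hi, k, rfl⟩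
        refine ⟨(α ^ k)⁻¹ * i⁻¹ * (α ^ k), ?_, -k, ?_⟩
        · have h1 := hRn.conj_mem i⁻¹ (inv_mem hi) (α ^ k)⁻¹
          rwa [inv_inv] at h1
        · rw [mul_inv_rev, zpow_neg]
          group }
  have hRH : R ≤ H := fun i hi => ⟨i, hi, 0, by simp⟩
  have hαH : α ∈ H := ⟨1, one_mem _, 1, by simp⟩
  let I : Subgroup H := R.subgroupOf H
  let V : Subgroup H := ((S : Subgroup K).map (MulAut.conj (G := K))).subgroupOf H
  have hVR : (S : Subgroup K).map (MulAut.conj (G := K)) ≤ R := by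
    rintro _ ⟨x, -, rfl⟩
    exact ⟨x, rfl⟩
  have hI : I.Normal := hRn.subgroupOf H
  have e1 : K ≃* R := MonoidHom.ofInjective hinj
  have e2 : I ≃* R := Subgroup.subgroupOfEquivOfLe hRH
  have hcoreI : ∀ O : Subgroup H, O.Normal → O ≤ I → Odd (Nat.card O) → O = ⊥ := by
    intro O hO hOI hodd
    -- the corresponding subgroup of `K`
    let O' : Subgroup K := (O.map H.subtype).comap (MulAut.conj (G := K))
    have hO'mem : ∀ x, x ∈ O' ↔ ∃ y ∈ O, (y : MulAut K) = MulAut.conj x := by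
      intro x
      rw [mem_comap, mem_map]
      rfl
    have hO' : O'.Normal := by
      refine ⟨fun x hx g => ?_⟩
      obtain ⟨y, hy, hyx⟩ := (hO'mem x).1 hx
      rw [hO'mem]
      have hg : MulAut.conj g ∈ H := hRH ⟨g, rfl⟩
      refine ⟨⟨MulAut.conj g, hg⟩ * y * (⟨MulAut.conj g, hg⟩ : H)⁻¹, hO.conj_mem y hy _, ?_⟩
      rw [map_mul, map_mul, map_inv, ← hyx]
      rfl
    have hcard : Nat.card O' = Nat.card O := by
      have e3 : O'.map (MulAut.conj (G := K)) = O.map H.subtype := by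
        apply map_comap_eq_self
        intro y hy
        obtain ⟨z, hz, rfl⟩ := hy
        exact mem_subgroupOf.1 (hOI hz)
      have e4 : Nat.card O' = Nat.card (O'.map (MulAut.conj (G := K))) :=
        Nat.card_congr (Subgroup.equivMapOfInjective O' _ hinj).toEquiv
      have e5 : Nat.card O = Nat.card (O.map H.subtype) :=
        Nat.card_congr (Subgroup.equivMapOfInjective O _ H.subtype_injective).toEquiv
      rw [e4, e5, e3]
    have h1 := hcore O' hO' (by rw [hcard]; exact hodd)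
    rw [eq_bot_iff]
    intro y hy
    obtain ⟨x, hx⟩ := mem_subgroupOf.1 (hOI hy)
    have h2 : x ∈ O' := (hO'mem x).2 ⟨y, hy, hx.symm⟩
    rw [h1, mem_bot] at h2
    rw [mem_bot]
    apply Subtype.ext
    rw [← hx, h2, map_one]
    rfl
  have hV2 : IsPGroup 2 V := (S.isPGroup'.map _).comap_subtype
  have hodd : ¬ 2 ∣ V.relIndex I := by
    have h2 : Fact (Nat.Prime 2) := ⟨Nat.prime_two⟩
    have h1 : V.relIndex I = ((S : Subgroup K).map (MulAut.conj (G := K))).relIndex R := by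
      exact Subgroup.relIndex_subgroupOf hRH
    have h3 : ((S : Subgroup K).map (MulAut.conj (G := K))).relIndex R = (S : Subgroup K).index := by
      have h4 := Subgroup.relIndex_map_map_of_injective (S : Subgroup K) ⊤ hinj
      rw [relIndex_top_right] at h4
      rw [← h4]
      congr 1
      exact MonoidHom.range_eq_map _
    rw [h1, h3]
    exact S.not_dvd_index
  have hcen : ∀ x : H, (∀ i ∈ I, x * i = i * x) → x = 1 := by
    intro x hx
    apply Subtype.ext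
    ext y
    have h1 := congrArg Subtype.val (hx ⟨MulAut.conj y, hRH ⟨y, rfl⟩⟩ (mem_subgroupOf.2 ⟨y, rfl⟩))
    have h2 : (x : MulAut K) * MulAut.conj y = MulAut.conj y * (x : MulAut K) := h1
    have h3 : (x : MulAut K) * MulAut.conj y * (x : MulAut K)⁻¹ = MulAut.conj y := by
      rw [h2, mul_inv_cancel_right]
    rw [hconj] at h3
    exact hinj h3
  have hVc : ∀ x ∈ V, ∀ y ∈ V, x * y = y * x := by
    rintro ⟨x, hx'⟩ ⟨a, ha, rfl⟩ ⟨y, hy'⟩ ⟨b, hb, rfl⟩
    apply Subtype.ext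
    show MulAut.conj a * MulAut.conj b = MulAut.conj b * MulAut.conj a
    rw [← map_mul, ← map_mul, hS a ha b hb]
  have hgen : ∀ h : H, ∃ i ∈ I, ∃ k : ℤ, h = i * (⟨α, hαH⟩ : H) ^ k := by
    rintro ⟨_, i, hi, k, rfl⟩
    exact ⟨⟨i, hRH hi⟩, mem_subgroupOf.2 hi, k, Subtype.ext rfl⟩
  have ha2 : IsPGroup 2 (zpowers (⟨α, hαH⟩ : H)) := by
    rintro ⟨_, k, rfl⟩
    obtain ⟨n, hn⟩ := hα ⟨α ^ k, zpow_mem (mem_zpowers α) k⟩
    have hn' : (α ^ k) ^ 2 ^ n = 1 := congrArg Subtype.val hn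
    refine ⟨n, Subtype.ext (Subtype.ext ?_)⟩
    simpa using hn'
  have haV : ∀ v ∈ V, (⟨α, hαH⟩ : H) * v = v * ⟨α, hαH⟩ := by
    rintro ⟨x, hx'⟩ ⟨a, ha, rfl⟩
    apply Subtype.ext
    show α * MulAut.conj a = MulAut.conj a * α
    have h3 := hconj α a
    rw [hfix a ha, mul_inv_eq_iff_eq_mul] at h3
    exact h3
  have h4 := mem_of_abelian I V hcoreI hcen (by
    intro x hx
    exact mem_subgroupOf.2 (hVR (mem_subgroupOf.1 hx))) hV2 hodd hVc hgen ha2 haV
  obtain ⟨v, hv, h5⟩ := mem_subgroupOf.1 h4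
  refine ⟨v, hv, fun x => ?_⟩
  have h6 : α = MulAut.conj v := h5.symm
  rw [h6, MulAut.conj_apply]

end Cfsg.Agent.H628.AbelAutGen
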