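import Mathlib
import Cfsg.Prelude.Def_Local
import Cfsg.Agent.Lib.Cores
import Cfsg.Agent.Lib.GenFitting
import Cfsg.Agent.Lib.SylowNormalInf

/-!
# The centralizer in a Sylow `p`-subgroup `P` of `P ∩ F*(G)` (helper628)

`main` : `O_{p'}(G) = 1`; if every automorphism of `p`-power order of `F*(G)` which fixes a Sylow
`p`-subgroup of `F*(G)` elementwise is inner (Gross's theorem, `p` odd), then `C_P(P ∩ F*(G)) ≤ F*(G)`.
-/

set_option autoImplicit false

namespace Cfsg.Agent.H628.SylowFStar

open Subgroup Cfsg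

theorem main {G : Type*} [Group G] [Finite G] {p : ℕ} [Fact p.Prime] (hcore : pPrimeCore p G = ⊥)
    (gross : pPrimeCore p ↥(generalizedFittingSubgroup G) = ⊥ →
      ∀ (Q : Sylow p ↥(generalizedFittingSubgroup G)) (α : MulAut ↥(generalizedFittingSubgroup G)),
      (∃ j : ℕ, orderOf α = p ^ j) → (∀ x ∈ (Q : Subgroup ↥(generalizedFittingSubgroup G)), α x = x) →
      ∃ g : ↥(generalizedFittingSubgroup G), ∀ x, α x = g * x * g⁻¹) (P : Sylow p G) :
    (P : Subgroup G) ⊓ centralizer (((P : Subgroup G) ⊓ generalizedFittingSubgroup G : Subgroup G) :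
      Set G) ≤ generalizedFittingSubgroup G := by
  have hFn : (generalizedFittingSubgroup G).Normal := Cfsg.Agent.Lib.GenFitting.genFitting_normal
  have h1 : pPrimeCore p ↥(generalizedFittingSubgroup G) = ⊥ := by
    have h2 := Cfsg.Agent.Lib.Cores.map_subtype_pPrimeCore p hFn
    rw [hcore, inf_bot_eq, map_eq_bot_iff_of_injective _ (subtype_injective _)] at h2
    exact h2
  rintro x ⟨hxP, hxC⟩
  -- `P ∩ F*` is a Sylow subgroup of `F*`
  have hQ : IsPGroup p ((P : Subgroup G).subgroupOf (generalizedFittingSubgroup G)) :=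
    P.isPGroup'.comap_subtype
  have hQi : ¬ p ∣ ((P : Subgroup G).subgroupOf (generalizedFittingSubgroup G)).index := by
    exact Cfsg.Agent.Lib.SylowNormalInf.not_dvd_relIndex P (generalizedFittingSubgroup G)
  obtain ⟨g, hg⟩ := gross h1 (hQ.toSylow hQi) (MulAut.conjNormal x) (by
      obtain ⟨k, hk⟩ := P.isPGroup' ⟨x, hxP⟩
      have hk' : x ^ p ^ k = 1 := congrArg Subtype.val hk
      have h7 : (MulAut.conjNormal x : MulAut ↥(generalizedFittingSubgroup G)) ^ p ^ k = 1 := by
        rw [← map_pow, hk', map_one]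
      obtain ⟨j, -, hj⟩ := (Nat.dvd_prime_pow Fact.out).1 (orderOf_dvd_of_pow_eq_one h7)
      exact ⟨j, hj⟩) (by
      intro y hy
      have hy' : (y : G) ∈ (P : Subgroup G) := mem_subgroupOf.1 hy
      apply Subtype.ext
      rw [MulAut.conjNormal_apply]
      have h8 := mem_centralizer_iff.1 hxC y ⟨hy', y.2⟩
      rw [← h8, mul_inv_cancel_right])
  have h9 : (g : G)⁻¹ * x ∈ centralizer (generalizedFittingSubgroup G : Set G) := by
    rw [mem_centralizer_iff]
    intro y hy
    have h10 := congrArg Subtype.val (hg ⟨y, hy⟩)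
    rw [MulAut.conjNormal_apply] at h10
    have h11 : x * y * x⁻¹ = (g : G) * y * (g : G)⁻¹ := h10
    have h12 : x * y = (g : G) * y * (g : G)⁻¹ * x := by
      rw [← h11]; group
    rw [mul_assoc, h12]
    group
  have h13 := Cfsg.Agent.Lib.GenFitting.centralizer_genFitting_le h9
  have h14 : x = (g : G) * ((g : G)⁻¹ * x) := by group
  rw [h14]
  exact mul_mem g.2 h13

end Cfsg.Agent.H628.SylowFStar
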